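import Cfsg.Agent.Lib.ThreeT.F22.Sift
import Cfsg.Agent.Lib.ThreeT.F22.PLoc
import Cfsg.Agent.Lib.TC.D.Fi22Chain.Main
import Cfsg.Agent.Lib.TC.D.Fi22b.Ok
import Cfsg.Agent.S0471

/-!
# The action of `Fi₂₂` on 3510 points, for the sifting procedure

`phi`: the action of the presented group on the points of the table `pt` (the cosets of the centralizer of `a`).
`Ch ls ts`: a chain of stabilizers with all the numerical checks. `Ch.mem_rel`: points hit by elements related to a word,
`Ch.word_eq`: identities of words are checked on the base.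
-/

set_option autoImplicit false
set_option linter.style.haveILetI false
set_option linter.unusedSectionVars false
set_option linter.unusedVariables false
set_option linter.style.longLine false
set_option linter.unnecessarySimpa false
set_option maxRecDepth 100000

namespace Cfsg.Agent.Lib.ThreeT.F22.Act

open Cfsg.Agent.Lib.TC.Core Cfsg.Agent.Lib.TC.Pres Cfsg.Agent.Lib.TC.Perm Cfsg.Agent.Lib.TC.Main
  Cfsg.Agent.Lib.TC.Chain Cfsg.Agent.Lib.TC.Chain.PermLev Cfsg.Agent.Lib.TC.G.Fi22
  Cfsg.Agent.Lib.TC.D.Fi22b.Tab Cfsg.Agent.Lib.TC.D.Fi22b.Ok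
  Cfsg.Agent.Lib.ThreeT.F22.Sift

/-- The group. -/
abbrev Γ : Type := PresentedGroup Rel

/-- The order of the group. -/
abbrev NN : Nat := 64561751654400

theorem card_Γ : Nat.card Γ = NN := Cfsg.Agent.Lib.TC.D.Fi22Chain.Main.simple_card.2

theorem simple_Γ : IsSimpleGroup Γ := Cfsg.Agent.Lib.TC.D.Fi22Chain.Main.simple_card.1

instance : Finite Γ := Nat.finite_of_card_ne_zero (by rw [card_Γ]; norm_num)

instance npos : NeZero pt.n := ok.npos

/-- The action on the points. -/
noncomputable def phi : Γ →* Equiv.Perm (Fin pt.n) := (ok.exists_action).choose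

theorem phi_spec : ∀ c, c < K.k → phi (K.E Rel c) = ok.hG.EP c := (ok.exists_action).choose_spec

/-- The value of a word. -/
noncomputable def wv (w : List Nat) : Γ := prodA (K.E Rel) w

theorem wv_append (l m : List Nat) : wv (l ++ m) = wv m * wv l := prodA_append' l m

theorem phi_inj : Function.Injective phi := by
  have h1 : phi.ker = ⊥ ∨ phi.ker = ⊤ := simple_Γ.eq_bot_or_eq_top_of_normal _ inferInstance
  rcases h1 with h1 | h1
  · exact (MonoidHom.ker_eq_bot_iff phi).1 h1
  · exfalso
    have h2 : K.E Rel 1 ∈ phi.ker := by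
      rw [h1]
      exact Subgroup.mem_top _
    have h3 : phi (K.E Rel 1) = 1 := h2
    rw [phi_spec 1 (by decide)] at h3
    have h4 := ok.hG.EP_apply (c := 1) (by decide) (0 : Fin pt.n)
    rw [h3] at h4
    have h5 : pt.T 1 0 = 0 := h4.symm
    have h6 : pt.T 1 0 ≠ 0 := by decide +kernel
    exact h6 h5

theorem act : Act pt (K.E Rel) phi where
  hval := fun l hl i => phi_prodA_apply ok.hPk ok.hG phi phi_spec l (by rw [← ok.hPk]; exact hl) i
  hinvlt := fun z hz => ok.hG.hinv z hz
  hinv := by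
    intro z hz
    have h1 := Cols.E_inv ok.hK z (by rw [← ok.hPk]; exact hz)
    rw [ok.hPinv]
    exact h1.2
  hinj := phi_inj

theorem phi_trans : ∀ i : Fin pt.n, ∃ g, phi g 0 = i := ok.trans phi phi_spec

theorem card_range : Nat.card phi.range = NN := by
  rw [← card_Γ]
  exact (Nat.card_congr (MonoidHom.ofInjective phi_inj).toEquiv).symm

theorem phi_val {w : List Nat} (hw : ∀ z ∈ w, z < pt.k) (i : Fin pt.n) : (phi (wv w) i).1 = pt.val w i.1 :=
  act.hval w hw i

/-- Copies of a word. -/
def rpw (xw : List Nat) (k : Nat) : List Nat := (List.replicate k xw).flatten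

theorem wv_rpw (xw : List Nat) (k : Nat) : wv (rpw xw k) = wv xw ^ k := by
  induction k with
  | zero => simp [rpw, wv]
  | succ k ih =>
    have : rpw xw (k + 1) = xw ++ rpw xw k := by simp [rpw, List.replicate_succ]
    rw [this, wv_append, ih, pow_succ]

theorem rpw_lt {xw : List Nat} (hw : ∀ z ∈ xw, z < pt.k) (k : Nat) : ∀ z ∈ rpw xw k, z < pt.k := by
  intro z hz
  simp only [rpw, List.mem_flatten, List.mem_replicate] at hz
  obtain ⟨l, ⟨_, rfl⟩, hz⟩ := hz
  exact hw z hz

/-- The numerical checks of a chain. -/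
structure Ch (ls : List Lev) (ts : List Nat) : Prop where
  hlev : levsOK pt [0] ls = true
  htabs : tabsOK ls ts = true
  hprod : NN = 3510 * prodM ls

variable {ls : List Lev} {ts : List Nat}

theorem Ch.card (h : Ch ls ts) : Nat.card (Kst phi [0]) = prodM ls :=
  card_stab0 phi_trans card_range ls h.hprod (by decide +kernel)

/-- The elements related to a word: the images of `0` are in the list. -/
theorem Ch.mem_rel (h : Ch ls ts) {xw : List Nat} (hxw : ∀ z ∈ xw, z < pt.k) (ks : List Nat) (t : Nat)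
    (hb : ls.map Lev.p = ks.map (fun k => pt.val (rpw xw k) 0)) (A : List Nat)
    (hchk : chkAll pt ls ts (ks.map (fun k => rpw xw (t * k))) A 0 3510 = true)
    {c : Γ} (hc : c * wv xw = wv xw ^ t * c) : (phi c 0).1 ∈ A := by
  have hrel : ∀ k, c * wv xw ^ k = (wv xw ^ t) ^ k * c := by
    intro k
    induction k with
    | zero => simp
    | succ k ih =>
      calc c * wv xw ^ (k + 1) = (c * wv xw ^ k) * wv xw := by rw [pow_succ, mul_assoc]
        _ = (wv xw ^ t) ^ k * c * wv xw := by rw [ih]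
        _ = (wv xw ^ t) ^ k * (c * wv xw) := by rw [mul_assoc]
        _ = (wv xw ^ t) ^ k * (wv xw ^ t * c) := by rw [hc]
        _ = (wv xw ^ t) ^ (k + 1) * c := by rw [pow_succ, mul_assoc]
  refine mem_of_chk act ls ts h.hlev h.htabs h.card (ks.map fun k => (rpw xw k, rpw xw (t * k))) A ?_ ?_ ?_
  · rw [hb, List.map_map]
    rfl
  · rw [List.map_map]
    exact hchk
  · intro q hq
    obtain ⟨k, _, rfl⟩ := List.mem_map.1 hq
    refine ⟨rpw_lt hxw k, rpw_lt hxw _, ?_⟩
    show c * wv (rpw xw k) = wv (rpw xw (t * k)) * c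
    rw [wv_rpw, wv_rpw, hrel, pow_mul]

/-- An element fixing the base. -/
theorem Ch.eq_one (h : Ch ls ts) {k : Γ} (h0 : (phi k 0).1 = 0)
    (hb : ∀ lv ∈ ls, ∀ i : Fin pt.n, i.1 = lv.p → phi k i = i) : k = 1 :=
  eq_one_of_fix act ls h.hlev h.card k (Fin.ext h0) hb

/-- The check of an identity of words on the base. -/
noncomputable def wordEqB (ls : List Lev) (w₁ w₂ : List Nat) : Bool :=
  andB (List.rec true (fun z _ ih => andB (Nat.blt z 9) ih) w₁) <|
  andB (List.rec true (fun z _ ih => andB (Nat.blt z 9) ih) w₂) <|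
  andB (pt.walk (fun u => pt.walk (fun v => Nat.beq u v) w₂ 0) w₁ 0) <|
  List.rec true (fun lv _ ih => andB (pt.walk (fun u => pt.walk (fun v => Nat.beq u v) w₂ lv.p) w₁ lv.p) ih) ls

theorem wordEqB_spec {w₁ w₂ : List Nat} (h : wordEqB ls w₁ w₂ = true) :
    (∀ z ∈ w₁, z < pt.k) ∧ (∀ z ∈ w₂, z < pt.k) ∧ pt.val w₁ 0 = pt.val w₂ 0 ∧ ∀ lv ∈ ls, pt.val w₁ lv.p = pt.val w₂ lv.p := by
  simp only [wordEqB, andB_eq_true] at h
  obtain ⟨h1, h2, h3, h4⟩ := h
  refine ⟨allLt_spec h1, allLt_spec h2, ?_, ?_⟩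
  · rw [pt.walk_eq, pt.walk_eq] at h3
    exact Nat.eq_of_beq_eq_true h3
  · clear h1 h2 h3
    induction ls with
    | nil => simp
    | cons lv ls ih =>
      have h' : andB (pt.walk (fun u => pt.walk (fun v => Nat.beq u v) w₂ lv.p) w₁ lv.p)
        (List.rec true (fun lv _ ih => andB (pt.walk (fun u => pt.walk (fun v => Nat.beq u v) w₂ lv.p) w₁ lv.p) ih) ls) = true := h4
      rw [andB_eq_true] at h'
      obtain ⟨h5, h6⟩ := h'
      intro lv' hlv'
      rcases List.mem_cons.1 hlv' with rfl | hlv'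
      · rw [pt.walk_eq, pt.walk_eq] at h5
        exact Nat.eq_of_beq_eq_true h5
      · exact ih h6 lv' hlv'

/-- Identities of words are checked on the base. -/
theorem Ch.word_eq (h : Ch ls ts) {w₁ w₂ : List Nat} (hB : wordEqB ls w₁ w₂ = true) : wv w₁ = wv w₂ := by
  obtain ⟨h1, h2, h3, h4⟩ := wordEqB_spec hB
  have h5 : (wv w₂)⁻¹ * wv w₁ = 1 := by
    apply h.eq_one
    · rw [map_mul, map_inv, Equiv.Perm.mul_apply]
      have e : phi (wv w₁) 0 = phi (wv w₂) 0 := by
        apply Fin.ext
        rw [phi_val h1, phi_val h2]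
        exact h3
      rw [e]
      simp
    · intro lv hlv i hi
      rw [map_mul, map_inv, Equiv.Perm.mul_apply]
      have e : phi (wv w₁) i = phi (wv w₂) i := by
        apply Fin.ext
        rw [phi_val h1, phi_val h2, hi]
        exact h4 lv hlv
      rw [e]
      simp
  exact (inv_mul_eq_one.1 h5).symm

/-- The test for a non-trivial word. -/
theorem wv_ne_one {w : List Nat} (hw : ∀ z ∈ w, z < pt.k) {i : Nat} (hi : i < pt.n) (h : pt.val w i ≠ i) : wv w ≠ 1 := by
  intro he
  have := phi_val hw ⟨i, hi⟩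
  rw [he, map_one] at this
  exact h this.symm

/-- The centralizer from a chain and a cycle: elements are determined by the image of `0`. -/
theorem Ch.eq_of_comm (h : Ch ls ts) {xw : List Nat} (hxw : ∀ z ∈ xw, z < pt.k) (ks : List Nat)
    (hb : ls.map Lev.p = ks.map (fun k => pt.val (rpw xw k) 0)) {c c' : Γ}
    (hc : c * wv xw = wv xw * c) (hc' : c' * wv xw = wv xw * c') (he : phi c 0 = phi c' 0) : c = c' := by
  have h1 : (c')⁻¹ * c = 1 := by
    apply h.eq_one
    · rw [map_mul, map_inv, Equiv.Perm.mul_apply, he]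
      simp
    · intro lv hlv i hi
      have hmem : lv.p ∈ ls.map Lev.p := List.mem_map_of_mem hlv
      rw [hb] at hmem
      obtain ⟨k, _, hk⟩ := List.mem_map.1 hmem
      have hi' : i = phi (wv xw ^ k) 0 := by
        apply Fin.ext
        rw [← wv_rpw, phi_val (rpw_lt hxw k), hi, ← hk]
        rfl
      have c1 : Commute c (wv xw) := hc
      have c2 : Commute c' (wv xw) := hc'
      have h0 : phi ((c')⁻¹ * c) 0 = 0 := by
        rw [map_mul, map_inv, Equiv.Perm.mul_apply, he]
        simp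
      have c3 : Commute ((c')⁻¹ * c) (wv xw ^ k) := ((c2.pow_right k).inv_left).mul_left (c1.pow_right k)
      rw [hi', ← Equiv.Perm.mul_apply, ← map_mul, c3.eq, map_mul, Equiv.Perm.mul_apply, h0]
  exact (inv_mul_eq_one.1 h1).symm

end Cfsg.Agent.Lib.ThreeT.F22.Act
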