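import Cfsg.Agent.Lib.ThreeT.F22.Cnt
import Cfsg.Prelude.Def_Spor_Fi22

/-!
# The class of the generator `a` of `Fi₂₂` and the 3510 points

The stabilizer of the point `0` is the centralizer of `a`, so the members of the class of `a` are the points.
-/

set_option autoImplicit false
set_option linter.style.haveILetI false
set_option linter.unusedSectionVars false
set_option linter.unusedVariables false
set_option linter.style.longLine false
set_option linter.unnecessarySimpa false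
set_option maxRecDepth 100000

namespace Cfsg.Agent.Lib.ThreeT.F22.DPts

open Cfsg.Agent.Lib.TC.Core Cfsg.Agent.Lib.TC.Pres Cfsg.Agent.Lib.TC.Perm Cfsg.Agent.Lib.TC.Main
  Cfsg.Agent.Lib.TC.Chain Cfsg.Agent.Lib.TC.Chain.PermLev Cfsg.Agent.Lib.TC.G.Fi22
  Cfsg.Agent.Lib.TC.D.Fi22b.Tab Cfsg.Agent.Lib.TC.D.Fi22b.Ok
  Cfsg.Agent.Lib.ThreeT.F22.Sift Cfsg.Agent.Lib.ThreeT.F22.Act

/-- The generator `a`. -/
noncomputable abbrev a0 : Γ := K.E Rel 0

theorem wv_zero : wv [0] = a0 := by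
  simp [wv]

theorem a0_eq_of : a0 = (PresentedGroup.of Cfsg.Spor.Fi22.Gen.a : Cfsg.Spor.Fi22) := by
  rfl

/-- The class of `a`. -/
def D0 : Set Γ := {u | ∃ k : Γ, u = k * a0 * k⁻¹}

theorem stab_eq : stab0 phi = Subgroup.centralizer ({a0} : Set Γ) := by
  have h1 : Subgroup.centralizer ({a0} : Set Γ) = subOf K Rel subs := Cfsg.Agent.S0471.hmain.1
  rw [h1]
  have hle := ok.le_stab phi phi_spec
  have hi := ok.index_eq
  have hi0 : (subOf K Rel subs).index ≠ 0 := by
    rw [hi]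
    exact ok.hG.hpos.ne'
  have hle2 : (stab0 phi).index ≤ pt.n :=
    (Subgroup.index_antitone hle).trans_eq hi
  have h2 : (stab0 phi).index = pt.n := by
    refine index_eq_of_le phi _ le_rfl phi_trans ?_ hle2
    exact Subgroup.index_ne_zero_of_finite
  symm
  apply Subgroup.eq_of_le_of_card_ge hle
  have h3 := Subgroup.card_mul_index (subOf K Rel subs)
  have h4 := Subgroup.card_mul_index (stab0 phi)
  rw [hi] at h3
  rw [h2] at h4
  have h5 : Nat.card (stab0 phi) * pt.n = Nat.card (subOf K Rel subs) * pt.n := by rw [h3, h4]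
  exact (Nat.eq_of_mul_eq_mul_right ok.hG.hpos h5).le

theorem fix_iff (g : Γ) : phi g 0 = 0 ↔ g * a0 = a0 * g := by
  rw [← mem_stab0, stab_eq, Subgroup.mem_centralizer_iff]
  constructor
  · intro h
    exact (h a0 rfl).symm
  · rintro h _ rfl
    exact h.symm

theorem comm_conj_iff (c k : Γ) : c * (k * a0 * k⁻¹) = (k * a0 * k⁻¹) * c ↔ phi c (phi k 0) = phi k 0 := by
  have h1 := fix_iff (k⁻¹ * c * k)
  have h2 : phi (k⁻¹ * c * k) 0 = (phi k)⁻¹ (phi c (phi k 0)) := by
    simp [map_mul, map_inv, Equiv.Perm.mul_apply]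
  have h3 : phi (k⁻¹ * c * k) 0 = 0 ↔ phi c (phi k 0) = phi k 0 := by
    rw [h2]
    constructor
    · intro h
      have := congrArg (phi k) h
      simpa using this
    · intro h
      rw [h]
      simp
  rw [← h3, h1]
  constructor
  · intro h
    have : k⁻¹ * (c * (k * a0 * k⁻¹)) * k = k⁻¹ * ((k * a0 * k⁻¹) * c) * k := by rw [h]
    calc k⁻¹ * c * k * a0 = k⁻¹ * (c * (k * a0 * k⁻¹)) * k := by group
      _ = k⁻¹ * ((k * a0 * k⁻¹) * c) * k := this
      _ = a0 * (k⁻¹ * c * k) := by group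
  · intro h
    have : k * (k⁻¹ * c * k * a0) * k⁻¹ = k * (a0 * (k⁻¹ * c * k)) * k⁻¹ := by rw [h]
    calc c * (k * a0 * k⁻¹) = k * (k⁻¹ * c * k * a0) * k⁻¹ := by group
      _ = k * (a0 * (k⁻¹ * c * k)) * k⁻¹ := this
      _ = (k * a0 * k⁻¹) * c := by group

theorem conj_eq_of_phi {k k' : Γ} (h : phi k 0 = phi k' 0) : k * a0 * k⁻¹ = k' * a0 * k'⁻¹ := by
  have h1 : phi (k'⁻¹ * k) 0 = 0 := by
    rw [map_mul, map_inv, Equiv.Perm.mul_apply, h]
    simp
  have h2 := (fix_iff _).1 h1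
  calc k * a0 * k⁻¹ = k' * ((k'⁻¹ * k) * a0) * k⁻¹ := by group
    _ = k' * (a0 * (k'⁻¹ * k)) * k⁻¹ := by rw [h2]
    _ = k' * a0 * k'⁻¹ := by group

/-- The letters are involutions. -/
theorem wv_reverse {w : List Nat} (hw : ∀ z ∈ w, z < pt.k) : wv w.reverse = (wv w)⁻¹ := by
  have h1 : w.reverse = Sift.invW pt w := by
    have h2 : w.map pt.inv = w := by
      have : ∀ z, z < pt.k → pt.inv z = z := by decide +kernel
      conv_rhs => rw [← List.map_id w]
      exact List.map_congr_left (fun z hz => this z (hw z hz))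
    simp [Sift.invW, h2]
  rw [h1]
  exact prodA_invW act hw

/-- The word of a member of the class. -/
def tw (w : List Nat) : List Nat := w.reverse ++ [0] ++ w

theorem wv_tw {w : List Nat} (hw : ∀ z ∈ w, z < pt.k) : wv (tw w) = wv w * a0 * (wv w)⁻¹ := by
  rw [tw, wv_append, wv_append, wv_zero, wv_reverse hw, mul_assoc]

theorem tw_mem {w : List Nat} (hw : ∀ z ∈ w, z < pt.k) : wv (tw w) ∈ D0 := ⟨wv w, wv_tw hw⟩

/-- The members of the class commuting with `x`, from the fixed points of `x`. -/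
theorem mem_fix {x : Γ} (fw : List (List Nat)) (hfw : ∀ w ∈ fw, ∀ z ∈ w, z < pt.k)
    (hfix : ∀ i : Fin pt.n, phi x i = i → ∃ w ∈ fw, pt.val w 0 = i.1) {u : Γ} (hu : u ∈ D0) (hc : u * x = x * u) :
    ∃ w ∈ fw, u = wv (tw w) := by
  obtain ⟨k, rfl⟩ := hu
  have h1 := (comm_conj_iff x k).1 hc.symm
  obtain ⟨w, hw, hv⟩ := hfix _ h1
  refine ⟨w, hw, ?_⟩
  rw [wv_tw (hfw w hw)]
  apply conj_eq_of_phi
  apply Fin.ext
  rw [phi_val (hfw w hw)]
  exact hv.symm

/-- A member commutes with `x` if its point is fixed. -/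
theorem tw_comm {xw w : List Nat} (hx : ∀ z ∈ xw, z < pt.k) (hw : ∀ z ∈ w, z < pt.k) (h : pt.val xw (pt.val w 0) = pt.val w 0) :
    wv (tw w) * wv xw = wv xw * wv (tw w) := by
  rw [wv_tw hw]
  symm
  apply (comm_conj_iff _ _).2
  apply Fin.ext
  rw [phi_val hx, phi_val hw]
  exact h

end Cfsg.Agent.Lib.ThreeT.F22.DPts
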